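import Mathlib.AlgebraicGeometry.AffineScheme
import Mathlib.RingTheory.MvPolynomial.Basic
import Mathlib.Algebra.MvPolynomial.CommRing
import Mathlib.RingTheory.Polynomial.UniqueFactorization
import Mathlib.Algebra.MvPolynomial.Division

/-! `D(s) ∪ D(t)` in `Spec R` is not affine when `s` and `t` are non-associated primes of a domain which
do not generate the unit ideal. -/

set_option autoImplicit false
universe u

namespace K653.PuncPlane

open AlgebraicGeometry CategoryTheory TopologicalSpace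

theorem basicOpen_algebraMap (R : CommRingCat.{u}) (U : (Spec R).Opens) (f : R) :
    (Spec R).basicOpen (algebraMap R Γ(Spec R, U) f) = U ⊓ PrimeSpectrum.basicOpen f := by
  have h1 : algebraMap R Γ(Spec R, U) f = (Spec R).presheaf.map (homOfLE (le_top : U ≤ ⊤)).op
      ((Scheme.ΓSpecIso R).inv f) := rfl
  rw [h1, Scheme.basicOpen_res, basicOpen_eq_of_affine]

theorem exists_of_prime {R : CommRingCat.{u}} [IsDomain R] (s t : R) (hs : Prime s)
    (hst : ¬ s ∣ t) (ht : t ≠ 0)
    (U : (Spec R).Opens) (hU : U = PrimeSpectrum.basicOpen s ⊔ PrimeSpectrum.basicOpen t)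
    (a : Γ(Spec R, U)) :
    ∃ r : R, algebraMap R _ r = a := by
  let Ds : (Spec R).Opens := PrimeSpectrum.basicOpen s
  let Dt : (Spec R).Opens := PrimeSpectrum.basicOpen t
  let Dst : (Spec R).Opens := PrimeSpectrum.basicOpen (s * t)
  have hs1 : Ds ≤ U := hU ▸ le_sup_left
  have ht1 : Dt ≤ U := hU ▸ le_sup_right
  have hst1 : Dst ≤ Ds := PrimeSpectrum.basicOpen_mul_le_left s t
  have hst2 : Dst ≤ Dt := PrimeSpectrum.basicOpen_mul_le_right s t
  have i1 : IsLocalization.Away s Γ(Spec R, Ds) := inferInstance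
  have i2 : IsLocalization.Away t Γ(Spec R, Dt) := inferInstance
  have i3 : IsLocalization.Away (s * t) Γ(Spec R, Dst) := inferInstance
  have hst0 : s * t ≠ 0 := mul_ne_zero hs.ne_zero ht
  have hinj : Function.Injective (algebraMap R Γ(Spec R, Dst)) :=
    IsLocalization.injective _ (powers_le_nonZeroDivisors_of_noZeroDivisors hst0)
  obtain ⟨n, p, hp⟩ := IsLocalization.Away.surj s ((Spec R).presheaf.map (homOfLE hs1).op a)
  obtain ⟨m, q, hq⟩ := IsLocalization.Away.surj t ((Spec R).presheaf.map (homOfLE ht1).op a)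
  -- compare on `D(st)`
  have e1 := congrArg ((Spec R).presheaf.map (homOfLE hst1).op) hp
  have e2 := congrArg ((Spec R).presheaf.map (homOfLE hst2).op) hq
  rw [map_mul, map_pow] at e1 e2
  have r1 : (Spec R).presheaf.map (homOfLE hst1).op ((Spec R).presheaf.map (homOfLE hs1).op a) =
      (Spec R).presheaf.map (homOfLE (hst1.trans hs1)).op a := by
    rw [← ConcreteCategory.comp_apply, ← Functor.map_comp]; rfl
  have r2 : (Spec R).presheaf.map (homOfLE hst2).op ((Spec R).presheaf.map (homOfLE ht1).op a) =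
      (Spec R).presheaf.map (homOfLE (hst1.trans hs1)).op a := by
    rw [← ConcreteCategory.comp_apply, ← Functor.map_comp]; rfl
  rw [r1] at e1
  rw [r2] at e2
  let a' := (Spec R).presheaf.map (homOfLE (hst1.trans hs1)).op a
  have e1' : a' * (algebraMap R Γ(Spec R, Dst) s) ^ n = algebraMap R Γ(Spec R, Dst) p := e1
  have e2' : a' * (algebraMap R Γ(Spec R, Dst) t) ^ m = algebraMap R Γ(Spec R, Dst) q := e2
  have e3 : t ^ m * p = s ^ n * q := by
    apply hinj
    rw [map_mul, map_mul, map_pow, map_pow, ← e1', ← e2']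
    ring
  have hd : s ^ n ∣ p := by
    have h1 : s ^ n ∣ t ^ m * p := ⟨q, e3⟩
    exact hs.pow_dvd_of_dvd_mul_left n (fun h => hst (hs.dvd_of_dvd_pow h)) h1
  obtain ⟨r, hr⟩ := hd
  have hq' : q = t ^ m * r := by
    apply mul_left_cancel₀ (pow_ne_zero n hs.ne_zero)
    rw [← e3, hr]; ring
  refine ⟨r, ?_⟩
  have h1 : (Spec R).presheaf.map (homOfLE hs1).op (algebraMap R Γ(Spec R, U) r) =
      (Spec R).presheaf.map (homOfLE hs1).op a := by
    have hu : IsUnit ((algebraMap R Γ(Spec R, Ds) s) ^ n) :=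
      (IsLocalization.Away.algebraMap_isUnit s).pow n
    apply hu.mul_right_cancel
    rw [hp, hr, map_mul, map_pow, mul_comm]
    rfl
  have h2 : (Spec R).presheaf.map (homOfLE ht1).op (algebraMap R Γ(Spec R, U) r) =
      (Spec R).presheaf.map (homOfLE ht1).op a := by
    have hu : IsUnit ((algebraMap R Γ(Spec R, Dt) t) ^ m) :=
      (IsLocalization.Away.algebraMap_isUnit t).pow m
    apply hu.mul_right_cancel
    rw [hq, hq', map_mul, map_pow, mul_comm]
    rfl
  exact (Spec R).sheaf.eq_of_locally_eq₂ (homOfLE hs1) (homOfLE ht1) hU.le _ _ h1 h2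

theorem not_isAffineOpen {R : CommRingCat.{u}} [IsDomain R] (s t : R) (hs : Prime s)
    (hst : ¬ s ∣ t) (ht : t ≠ 0) (h1 : Ideal.span {s, t} ≠ ⊤) :
    ¬ IsAffineOpen (X := Spec R) (PrimeSpectrum.basicOpen s ⊔ PrimeSpectrum.basicOpen t) := by
  intro hU
  set U : (Spec R).Opens := PrimeSpectrum.basicOpen s ⊔ PrimeSpectrum.basicOpen t with hUdef
  have h2 : Ideal.span {algebraMap R Γ(Spec R, U) s, algebraMap R Γ(Spec R, U) t} = ⊤ := by
    rw [← hU.iSup_basicOpen_eq_self_iff]
    apply le_antisymm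
    · exact iSup_le (fun i => (Spec R).basicOpen_le _)
    · intro x hx
      rw [Opens.mem_iSup]
      rcases hx with hx | hx
      · refine ⟨⟨algebraMap R Γ(Spec R, U) s, Or.inl rfl⟩, ?_⟩
        rw [basicOpen_algebraMap]
        exact ⟨Or.inl hx, hx⟩
      · refine ⟨⟨algebraMap R Γ(Spec R, U) t, Or.inr rfl⟩, ?_⟩
        rw [basicOpen_algebraMap]
        exact ⟨Or.inr hx, hx⟩
  have h3 : (1 : Γ(Spec R, U)) ∈ Ideal.span {algebraMap R Γ(Spec R, U) s,
      algebraMap R Γ(Spec R, U) t} := by rw [h2]; trivial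
  obtain ⟨a, b, hab⟩ := Ideal.mem_span_pair.mp h3
  obtain ⟨a, rfl⟩ := exists_of_prime s t hs hst ht U hUdef a
  obtain ⟨b, rfl⟩ := exists_of_prime s t hs hst ht U hUdef b
  have hinj : Function.Injective (algebraMap R Γ(Spec R, U)) := by
    have i1 : IsLocalization.Away s Γ(Spec R, (PrimeSpectrum.basicOpen s : (Spec R).Opens)) :=
      inferInstance
    have hinj' : Function.Injective
        (algebraMap R Γ(Spec R, (PrimeSpectrum.basicOpen s : (Spec R).Opens))) :=
      IsLocalization.injective _ (powers_le_nonZeroDivisors_of_noZeroDivisors hs.ne_zero)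
    intro x y hxy
    apply hinj'
    exact congrArg ((Spec R).presheaf.map (homOfLE (le_sup_left : PrimeSpectrum.basicOpen s ≤ U)).op) hxy
  apply h1
  rw [Ideal.eq_top_iff_one, Ideal.mem_span_pair]
  refine ⟨a, b, hinj ?_⟩
  rw [map_add, map_mul, map_mul, map_one]
  exact hab

end K653.PuncPlane
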