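import Groth.Agent.RedSep.K653.SepCover
import Mathlib.AlgebraicGeometry.Morphisms.ClosedImmersion
import Mathlib.AlgebraicGeometry.Morphisms.Flat

/-! The affine criterion for separatedness: intersections are affine and generated. -/

set_option autoImplicit false
universe u v

namespace K653.SepAffine

open AlgebraicGeometry CategoryTheory Limits

/-- A pushout of commutative rings is generated by the two factors. -/
theorem closure_range_eq_top {R A B P : CommRingCat.{u}} {f : R ⟶ A} {g : R ⟶ B} {inl : A ⟶ P}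
    {inr : B ⟶ P} (h : IsPushout f g inl inr) :
    Subring.closure (Set.range inl.hom ∪ Set.range inr.hom) = ⊤ := by
  let T : Subring P := Subring.closure (Set.range inl.hom ∪ Set.range inr.hom)
  let a : A ⟶ CommRingCat.of T := CommRingCat.ofHom
    (inl.hom.codRestrict T (fun x => Subring.subset_closure (Or.inl ⟨x, rfl⟩)))
  let b : B ⟶ CommRingCat.of T := CommRingCat.ofHom
    (inr.hom.codRestrict T (fun x => Subring.subset_closure (Or.inr ⟨x, rfl⟩)))
  let s : CommRingCat.of T ⟶ P := CommRingCat.ofHom T.subtype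
  have ha : a ≫ s = inl := by ext x; rfl
  have hb : b ≫ s = inr := by ext x; rfl
  have hw : f ≫ a = g ≫ b := by
    ext x
    exact ConcreteCategory.congr_hom h.w x
  have h1 : h.desc a b hw ≫ s = 𝟙 P := by
    apply h.hom_ext
    · rw [← Category.assoc, h.inl_desc, ha, Category.comp_id]
    · rw [← Category.assoc, h.inr_desc, hb, Category.comp_id]
  rw [eq_top_iff]
  intro x _
  have h2 := ConcreteCategory.congr_hom h1 x
  have h3 : ((h.desc a b hw x : CommRingCat.of T) : P) = x := h2
  rw [← h3]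
  exact (h.desc a b hw x).2

theorem appLE_top_top {X Y : Scheme.{u}} (f : X ⟶ Y) (h : (⊤ : X.Opens) ≤ f ⁻¹ᵁ ⊤) :
    f.appLE ⊤ ⊤ h = f.appTop := by
  exact (Scheme.Hom.app_eq_appLE (f := f) (U := ⊤)).symm

/-- cartesian squares of affine schemes -/
theorem isPushout_appTop {Y Y' S S' : Scheme.{u}} {iY : Y' ⟶ Y} {g' : Y' ⟶ S'} {g : Y ⟶ S}
    {r : S' ⟶ S} (H : IsPullback iY g' g r) [IsAffine Y] [IsAffine S] [IsAffine S'] :
    IsPushout r.appTop g.appTop g'.appTop iY.appTop := by
  have h1 := isIso_pushoutSection_of_isAffineOpen H (US := ⊤) (UT := ⊤) (UX := ⊤) (UY := ⊤)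
    le_top le_top (by exact (inf_top_eq _).symm) (isAffineOpen_top S) (isAffineOpen_top S')
    (isAffineOpen_top Y)
  rw [isIso_pushoutSection_iff] at h1
  rw [appLE_top_top, appLE_top_top, appLE_top_top, appLE_top_top] at h1
  exact h1.flip

theorem homOfLE_appTop_topIso {X : Scheme.{u}} {U V : X.Opens} (e : U ≤ V) :
    (X.homOfLE e).appTop ≫ U.topIso.hom = V.topIso.hom ≫ X.presheaf.map (homOfLE e).op := by
  rw [Scheme.homOfLE_appTop, Scheme.Opens.topIso_hom, Scheme.Opens.topIso_hom]
  refine (X.presheaf.map_comp _ _).symm.trans (Eq.trans ?_ (X.presheaf.map_comp _ _))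
  rfl

theorem range_comp_of_surjective {A B C : Type*} [CommRing A] [CommRing B] [CommRing C]
    (e : A →+* B) (he : Function.Surjective e) (r : B →+* C) :
    Set.range r = Set.range (r.comp e) := by
  ext x
  constructor
  · rintro ⟨b, rfl⟩
    obtain ⟨a, rfl⟩ := he b
    exact ⟨a, rfl⟩
  · rintro ⟨a, rfl⟩
    exact ⟨e a, rfl⟩

theorem closure_eq_top_iff {A B : Type*} [CommRing A] [CommRing B] (e : A →+* B)
    (he : Function.Bijective e) (s t : Set A) (s' t' : Set B) (hs : s' = e '' s) (ht : t' = e '' t) :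
    Subring.closure (s' ∪ t') = ⊤ ↔ Subring.closure (s ∪ t) = ⊤ := by
  rw [hs, ht, ← Set.image_union, ← RingHom.map_closure]
  constructor
  · intro h
    rw [eq_top_iff]
    intro x _
    have : e x ∈ (Subring.closure (s ∪ t)).map e := by rw [h]; trivial
    obtain ⟨y, hy, hxy⟩ := this
    rw [← he.1 hxy]
    exact hy
  · intro h
    rw [h, eq_top_iff]
    intro y _
    obtain ⟨x, rfl⟩ := he.2 y
    exact ⟨x, trivial, rfl⟩

theorem isClosedImmersion_dmap_iff {X Y : Scheme.{u}} [IsAffine Y] (f : X ⟶ Y) (U V : X.Opens)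
    (hU : IsAffineOpen U) (hV : IsAffineOpen V) :
    IsClosedImmersion (SepCover.dmap f U V) ↔ IsAffineOpen (U ⊓ V) ∧
      Subring.closure (Set.range (X.presheaf.map (homOfLE (inf_le_left : U ⊓ V ≤ U)).op).hom ∪
        Set.range (X.presheaf.map (homOfLE (inf_le_right : U ⊓ V ≤ V)).op).hom) = ⊤ := by
  have : IsAffine U := hU
  have : IsAffine V := hV
  set d := SepCover.dmap f U V
  have hpo : IsPushout (V.ι ≫ f).appTop (U.ι ≫ f).appTop
      (pullback.snd (U.ι ≫ f) (V.ι ≫ f)).appTop (pullback.fst (U.ι ≫ f) (V.ι ≫ f)).appTop :=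
    isPushout_appTop (IsPullback.of_hasPullback (U.ι ≫ f) (V.ι ≫ f))
  have hgen := closure_range_eq_top hpo
  have h1 : Function.Surjective d.appTop.hom ↔
      Subring.closure (Set.range (X.homOfLE (inf_le_left : U ⊓ V ≤ U)).appTop.hom ∪
        Set.range (X.homOfLE (inf_le_right : U ⊓ V ≤ V)).appTop.hom) = ⊤ := by
    rw [← RingHom.range_eq_top, RingHom.range_eq_map, ← hgen, RingHom.map_closure, Set.image_union,
      ← Set.range_comp, ← Set.range_comp, Set.union_comm]
    have e1 : (X.homOfLE (inf_le_left : U ⊓ V ≤ U)).appTop =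
        (pullback.fst (U.ι ≫ f) (V.ι ≫ f)).appTop ≫ d.appTop := by
      rw [← Scheme.Hom.comp_appTop, SepCover.dmap_fst]
    have e2 : (X.homOfLE (inf_le_right : U ⊓ V ≤ V)).appTop =
        (pullback.snd (U.ι ≫ f) (V.ι ≫ f)).appTop ≫ d.appTop := by
      rw [← Scheme.Hom.comp_appTop, SepCover.dmap_snd]
    rw [e1, e2]
    rfl
  have h2 : Subring.closure (Set.range (X.presheaf.map (homOfLE (inf_le_left : U ⊓ V ≤ U)).op).hom ∪
        Set.range (X.presheaf.map (homOfLE (inf_le_right : U ⊓ V ≤ V)).op).hom) = ⊤ ↔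
      Subring.closure (Set.range (X.homOfLE (inf_le_left : U ⊓ V ≤ U)).appTop.hom ∪
        Set.range (X.homOfLE (inf_le_right : U ⊓ V ≤ V)).appTop.hom) = ⊤ := by
    have key : ∀ (W W' : X.Opens) (e : W ≤ W'),
        Set.range (X.presheaf.map (homOfLE e).op).hom =
          W.topIso.hom.hom '' Set.range (X.homOfLE e).appTop.hom := by
      intro W W' e
      rw [range_comp_of_surjective W'.topIso.hom.hom
        (ConcreteCategory.bijective_of_isIso W'.topIso.hom).2, ← Set.range_comp]
      have := homOfLE_appTop_topIso e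
      rw [← CommRingCat.hom_comp, ← this]
      rfl
    exact closure_eq_top_iff (U ⊓ V : X.Opens).topIso.hom.hom
      (ConcreteCategory.bijective_of_isIso (U ⊓ V : X.Opens).topIso.hom) _ _ _ _
      (key _ _ _) (key _ _ _)
  rw [h2, ← h1]
  constructor
  · intro h
    obtain ⟨h3, h4⟩ := IsClosedImmersion.isAffine_surjective_of_isAffine d
    exact ⟨h3, h4⟩
  · rintro ⟨h3, h4⟩
    have : IsAffine (U ⊓ V : X.Opens) := h3
    exact IsClosedImmersion.of_surjective_of_isAffine d h4

theorem isSeparated_iff_affine {X Y : Scheme.{u}} [IsAffine Y] (f : X ⟶ Y) {ι : Type v}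
    (U : ι → X.Opens) (hU : ∀ i, IsAffineOpen (U i)) (hcov : ⨆ i, U i = ⊤) :
    IsSeparated f ↔ ∀ i j, IsAffineOpen (U i ⊓ U j) ∧
      Subring.closure (Set.range (X.presheaf.map (homOfLE (inf_le_left : U i ⊓ U j ≤ U i)).op).hom ∪
        Set.range (X.presheaf.map (homOfLE (inf_le_right : U i ⊓ U j ≤ U j)).op).hom) = ⊤ := by
  have hc : ∀ x : X, ∃ i, x ∈ U i := by
    intro x
    have : x ∈ (⨆ i, U i : X.Opens) := by rw [hcov]; trivial
    exact TopologicalSpace.Opens.mem_iSup.mp this
  rw [SepCover.isSeparated_iff f (ι := ι × ι) (fun p => U p.1) (fun p => U p.2) (by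
    intro x y _
    obtain ⟨i, hi⟩ := hc x
    obtain ⟨j, hj⟩ := hc y
    exact ⟨(i, j), hi, hj⟩)]
  constructor
  · intro h i j
    exact (isClosedImmersion_dmap_iff f _ _ (hU i) (hU j)).mp (h (i, j))
  · rintro h ⟨i, j⟩
    exact (isClosedImmersion_dmap_iff f _ _ (hU i) (hU j)).mpr (h i j)

theorem isClosedImmersion_dmap_self {X S : Scheme.{u}} (f : X ⟶ S) (U : X.Opens)
    [IsSeparated (U.ι ≫ f)] : IsClosedImmersion (SepCover.dmap f U U) := by
  have h1 : SepCover.dmap f U U = X.homOfLE (inf_le_left : U ⊓ U ≤ U) ≫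
      pullback.diagonal (U.ι ≫ f) := by
    apply pullback.hom_ext
    · rw [SepCover.dmap_fst, Category.assoc, pullback.diagonal_fst, Category.comp_id]
    · rw [SepCover.dmap_snd, Category.assoc, pullback.diagonal_snd, Category.comp_id]
  have h2 : X.homOfLE (inf_le_left : U ⊓ U ≤ U) = (X.isoOfEq (inf_idem U)).hom := by
    rw [← cancel_mono U.ι]; simp
  rw [h1, h2]
  infer_instance

theorem isSeparated_of_pairs {X S : Scheme.{u}} [IsAffine S] (f : X ⟶ S)
    (h : ∀ x y : X, f x = f y → ∃ U : X.Opens, IsAffineOpen U ∧ x ∈ U ∧ y ∈ U) :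
    IsSeparated f := by
  rw [SepCover.isSeparated_iff f (ι := {U : X.Opens // IsAffineOpen U}) (fun p => p.1) (fun p => p.1)
    (by
      intro x y hxy
      obtain ⟨U, hU, hx, hy⟩ := h x y hxy
      exact ⟨⟨U, hU⟩, hx, hy⟩)]
  rintro ⟨U, hU⟩
  have : IsAffine U := hU
  have : IsSeparated (U.ι ≫ f) := inferInstance
  exact isClosedImmersion_dmap_self f U

end K653.SepAffine
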