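import Mathlib.AlgebraicGeometry.Morphisms.Separated
import Mathlib.AlgebraicGeometry.PullbackCarrier

/-! Separatedness tested on a family of pairs of opens `U i × V i` covering `X ×_S X`. -/

set_option autoImplicit false
universe u v

namespace K653.SepCover

open AlgebraicGeometry CategoryTheory Limits

variable {X S : Scheme.{u}} (f : X ⟶ S)

/-- The map `U ⊓ V ⟶ U ×_S V`. -/
noncomputable def dmap (U V : X.Opens) :
    (U ⊓ V : X.Opens).toScheme ⟶ pullback (U.ι ≫ f) (V.ι ≫ f) :=
  pullback.lift (X.homOfLE (inf_le_left : U ⊓ V ≤ U)) (X.homOfLE (inf_le_right : U ⊓ V ≤ V))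
    (by rw [Scheme.homOfLE_ι_assoc, Scheme.homOfLE_ι_assoc])

theorem dmap_fst (U V : X.Opens) :
    dmap f U V ≫ pullback.fst (U.ι ≫ f) (V.ι ≫ f) = X.homOfLE (inf_le_left : U ⊓ V ≤ U) :=
  pullback.lift_fst _ _ _

theorem dmap_snd (U V : X.Opens) :
    dmap f U V ≫ pullback.snd (U.ι ≫ f) (V.ι ≫ f) = X.homOfLE (inf_le_right : U ⊓ V ≤ V) :=
  pullback.lift_snd _ _ _

/-- `U ×_S V ⟶ X ×_S X`. -/
noncomputable def incl (U V : X.Opens) :
    pullback (U.ι ≫ f) (V.ι ≫ f) ⟶ pullback f f :=
  pullback.map (U.ι ≫ f) (V.ι ≫ f) f f U.ι V.ι (𝟙 S) (by simp) (by simp)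

theorem incl_fst (U V : X.Opens) :
    incl f U V ≫ pullback.fst f f = pullback.fst (U.ι ≫ f) (V.ι ≫ f) ≫ U.ι :=
  pullback.lift_fst _ _ _

theorem incl_snd (U V : X.Opens) :
    incl f U V ≫ pullback.snd f f = pullback.snd (U.ι ≫ f) (V.ι ≫ f) ≫ V.ι :=
  pullback.lift_snd _ _ _

instance (U V : X.Opens) : IsOpenImmersion (incl f U V) := by
  unfold incl; infer_instance

theorem range_incl (U V : X.Opens) : Set.range (incl f U V) =
    pullback.fst f f ⁻¹' (U : Set X) ∩ pullback.snd f f ⁻¹' (V : Set X) := by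
  unfold incl
  rw [Scheme.Pullback.range_map, Scheme.Opens.range_ι, Scheme.Opens.range_ι]

theorem isPullback_dmap (U V : X.Opens) :
    IsPullback (U ⊓ V : X.Opens).ι (dmap f U V) (pullback.diagonal f) (incl f U V) := by
  have hw : (U ⊓ V : X.Opens).ι ≫ pullback.diagonal f = dmap f U V ≫ incl f U V := by
    apply pullback.hom_ext
    · rw [Category.assoc, pullback.diagonal_fst, Category.comp_id, Category.assoc,
        incl_fst, ← Category.assoc, dmap_fst, Scheme.homOfLE_ι]
    · rw [Category.assoc, pullback.diagonal_snd, Category.comp_id, Category.assoc,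
        incl_snd, ← Category.assoc, dmap_snd, Scheme.homOfLE_ι]
  have h1 : ∀ s : PullbackCone (pullback.diagonal f) (incl f U V),
      s.fst = (s.snd ≫ pullback.fst _ _) ≫ U.ι := by
    intro s
    have := congrArg (· ≫ pullback.fst f f) s.condition
    simpa [incl_fst] using this
  have h2 : ∀ s : PullbackCone (pullback.diagonal f) (incl f U V),
      s.fst = (s.snd ≫ pullback.snd _ _) ≫ V.ι := by
    intro s
    have := congrArg (· ≫ pullback.snd f f) s.condition
    simpa [incl_snd] using this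
  have hr : ∀ s : PullbackCone (pullback.diagonal f) (incl f U V),
      Set.range s.fst ⊆ Set.range (U ⊓ V : X.Opens).ι := by
    rintro s _ ⟨z, rfl⟩
    rw [Scheme.Opens.range_ι]
    refine ⟨?_, ?_⟩
    · have h3 := congr($(h1 s) z)
      rw [Scheme.Hom.comp_apply] at h3
      rw [h3]
      exact ((s.snd ≫ pullback.fst (U.ι ≫ f) (V.ι ≫ f)) z).2
    · have h3 := congr($(h2 s) z)
      rw [Scheme.Hom.comp_apply] at h3
      rw [h3]
      exact ((s.snd ≫ pullback.snd (U.ι ≫ f) (V.ι ≫ f)) z).2
  refine IsPullback.of_isLimit' ⟨hw⟩ (PullbackCone.IsLimit.mk _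
    (fun s => IsOpenImmersion.lift (U ⊓ V : X.Opens).ι s.fst (hr s))
    (fun s => IsOpenImmersion.lift_fac _ _ _) (fun s => ?_) (fun s m h3 h4 => ?_))
  · apply pullback.hom_ext
    · rw [← cancel_mono U.ι]
      simp only [Category.assoc]
      rw [reassoc_of% (dmap_fst f U V), Scheme.homOfLE_ι, IsOpenImmersion.lift_fac, h1 s,
        Category.assoc]
    · rw [← cancel_mono V.ι]
      simp only [Category.assoc]
      rw [reassoc_of% (dmap_snd f U V), Scheme.homOfLE_ι, IsOpenImmersion.lift_fac, h2 s,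
        Category.assoc]
  · rw [← cancel_mono (U ⊓ V : X.Opens).ι, h3, IsOpenImmersion.lift_fac]

/-- Separatedness tested on a family of pairs of opens. -/
theorem isSeparated_iff {ι : Type v} (U V : ι → X.Opens)
    (hcov : ∀ x y : X, f x = f y → ∃ i, x ∈ U i ∧ y ∈ V i) :
    IsSeparated f ↔ ∀ i, IsClosedImmersion (dmap f (U i) (V i)) := by
  let 𝒰 : (pullback f f).OpenCover :=
    { I₀ := ι
      X i := pullback ((U i).ι ≫ f) ((V i).ι ≫ f)
      f i := incl f (U i) (V i)
      mem₀ := by
        rw [Scheme.presieve₀_mem_precoverage_iff]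
        refine ⟨fun z ↦ ?_, fun i ↦ inferInstanceAs (IsOpenImmersion (incl f (U i) (V i)))⟩
        obtain ⟨i, hi⟩ := hcov (pullback.fst f f z) (pullback.snd f f z) (by
          rw [← Scheme.Hom.comp_apply, pullback.condition, Scheme.Hom.comp_apply])
        refine ⟨i, ?_⟩
        change z ∈ Set.range (incl f (U i) (V i))
        rw [range_incl]
        exact hi }
  rw [AlgebraicGeometry.isSeparated_iff,
    IsZariskiLocalAtTarget.iff_of_openCover (P := @IsClosedImmersion) 𝒰]
  refine forall_congr' fun i => ?_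
  have e : Arrow.mk (𝒰.pullbackHom (pullback.diagonal f) i) ≅ Arrow.mk (dmap f (U i) (V i)) :=
    Arrow.isoMk ((isPullback_dmap f (U i) (V i)).isoPullback.symm) (Iso.refl _) (by
      simp only [Arrow.mk_hom, Iso.symm_hom, Iso.refl_hom, Category.comp_id]
      exact (isPullback_dmap f (U i) (V i)).isoPullback_inv_snd)
  exact MorphismProperty.arrow_mk_iso_iff (P := @IsClosedImmersion) e

end K653.SepCover
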